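import Cfsg.Agent.Lib.Sporadic.CosetCertPerm

/-!
A chain whose product is the order of the group has trivial pointwise stabiliser of its base points.
-/

set_option autoImplicit false

namespace CfsgLib.Schur.Sporadic.He

open CfsgLib.Sporadic.CosetCert CfsgLib.Sporadic.CosetCert.PTab

variable {T : PTab}

/-- The permutations fixing the base points of a chain. -/
def fixBase (T : PTab) : List (ℕ × List ℕ × List (ℕ × ℕ × ℕ)) → Subgroup (Equiv.Perm (Fin T.N))
  | [] => ⊤
  | e :: t => (if hb : e.1 < T.N then MulAction.stabilizer _ (⟨e.1, hb⟩ : Fin T.N) else ⊤) ⊓ fixBase T t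

theorem mem_fixBase {σ : Equiv.Perm (Fin T.N)} :
    ∀ {L : List (ℕ × List ℕ × List (ℕ × ℕ × ℕ))},
      (∀ e ∈ L, ∀ hb : e.1 < T.N, σ ⟨e.1, hb⟩ = ⟨e.1, hb⟩) → σ ∈ fixBase T L
  | [], _ => Subgroup.mem_top _
  | e :: t, h => by
    refine Subgroup.mem_inf.2 ⟨?_, mem_fixBase fun e' he' => h e' (List.mem_cons_of_mem _ he')⟩
    split
    · rename_i hb
      exact h e List.mem_cons_self hb
    · exact Subgroup.mem_top _

theorem chainProd_mul_fix_le {G : Type*} [Group G] {φ : G →* Equiv.Perm (Fin T.N)} {g : ℕ → G}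
    (hA : T.Acts φ g) (hS : T.slpOK = true) :
    ∀ (L : List (ℕ × List ℕ × List (ℕ × ℕ × ℕ))) (fixed : List ℕ)
      (P : Subgroup (Equiv.Perm (Fin T.N))), T.chainOK L fixed = true →
      (∀ e ∈ L, ∀ r ∈ e.2.1, (∀ c ∈ fixed, T.img r c = c) → φ (T.el g r) ∈ P) →
      chainProd L * Nat.card (P ⊓ fixBase T L : Subgroup _) ≤ Nat.card P := by
  intro L
  induction L with
  | nil =>
    intro _ P _ _
    simp [chainProd, fixBase]
  | cons e t ih =>
    obtain ⟨b, S, O⟩ := e
    intro fixed P h hmem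
    have h' := h
    simp only [chainOK, Bool.and_eq_true, Nat.blt_eq, List.all_eq_true, Nat.beq_eq] at h
    obtain ⟨⟨⟨hb, hSS⟩, h1⟩, h3⟩ := h
    obtain ⟨m, hm⟩ := Option.isSome_iff_exists.1 h1
    obtain ⟨hsub, hcard⟩ := bfs_spec hA hS (fun r hr => (hSS r hr).1) (P := P)
      (by
        rintro _ ⟨r, hr, rfl⟩
        exact hmem _ List.mem_cons_self r hr (hSS r hr).2) ⟨b, hb⟩ O _ m hm (by
      intro u hu
      rw [show (2 : ℕ) ^ b = 2 ^ ((⟨b, hb⟩ : Fin T.N) : ℕ) from rfl, maskSet_two_pow,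
        Finset.mem_singleton] at hu
      subst hu
      exact MulAction.mem_orbit_self _)
    rw [show (2 : ℕ) ^ b = 2 ^ ((⟨b, hb⟩ : Fin T.N) : ℕ) from rfl, maskSet_two_pow,
      Finset.card_singleton] at hcard
    have horb : O.length + 1 ≤ Nat.card (MulAction.orbit P (⟨b, hb⟩ : Fin T.N)) := by
      rw [Nat.card_coe_set_eq, add_comm, ← hcard, ← Set.ncard_coe_finset]
      exact Set.ncard_le_ncard (fun u hu => hsub u hu) (Set.toFinite _)
    have hst := ih (b :: fixed) (P ⊓ MulAction.stabilizer _ (⟨b, hb⟩ : Fin T.N)) h3 (by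
      intro e he r hr hfix
      have hmemS : r < T.nl + T.slp.length := by
        have key : ∀ (L : List (ℕ × List ℕ × List (ℕ × ℕ × ℕ))) (fx : List ℕ),
            T.chainOK L fx = true → ∀ e ∈ L, ∀ r ∈ e.2.1, r < T.nl + T.slp.length := by
          intro L
          induction L with
          | nil => intro _ _ e he; simp at he
          | cons e' t' ih' =>
            obtain ⟨b', S', O'⟩ := e'
            intro fx hfx e he r hr
            simp only [chainOK, Bool.and_eq_true, Nat.blt_eq, List.all_eq_true] at hfx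
            rcases List.mem_cons.1 he with rfl | he
            · exact (hfx.1.1.2 r hr).1
            · exact ih' _ hfx.2 e he r hr
        exact key t _ h3 e he r hr
      refine ⟨hmem e (List.mem_cons_of_mem _ he) r hr
        (fun c hc => hfix c (List.mem_cons_of_mem _ hc)), ?_⟩
      exact Fin.ext (by
        show ((φ (T.el g r) ⟨b, hb⟩ : Fin T.N) : ℕ) = b
        rw [hA.el_img hS r hmemS ⟨b, hb⟩]
        exact hfix b List.mem_cons_self))
    have hos : Nat.card (MulAction.orbit P (⟨b, hb⟩ : Fin T.N)) *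
        Nat.card (MulAction.stabilizer P (⟨b, hb⟩ : Fin T.N)) = Nat.card P := by
      rw [← Nat.card_prod]
      exact Nat.card_congr (MulAction.orbitProdStabilizerEquivGroup P _)
    have hle : Nat.card (P ⊓ MulAction.stabilizer (Equiv.Perm (Fin T.N)) (⟨b, hb⟩ : Fin T.N) :
        Subgroup _) ≤ Nat.card (MulAction.stabilizer P (⟨b, hb⟩ : Fin T.N)) :=
      Nat.card_le_card_of_injective (fun a => ⟨⟨a.1, a.2.1⟩, a.2.2⟩)
        fun a a' e => by
          obtain ⟨a, _⟩ := a
          obtain ⟨a', _⟩ := a'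
          cases e
          rfl
    have e : fixBase T ((b, S, O) :: t) = MulAction.stabilizer _ (⟨b, hb⟩ : Fin T.N) ⊓ fixBase T t := by
      rw [fixBase, dif_pos hb]
    rw [e, ← inf_assoc]
    calc (O.length + 1) * chainProd t * Nat.card _
        = (O.length + 1) * (chainProd t * Nat.card _) := mul_assoc _ _ _
      _ ≤ _ * _ := Nat.mul_le_mul horb (hst.trans hle)
      _ = Nat.card P := hos

/-- An element fixing all base points of a full chain is trivial. -/
theorem eq_one_of_fix {G : Type*} [Group G] [Finite G] {φ : G →* Equiv.Perm (Fin T.N)} {g : ℕ → G}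
    (hA : T.Acts φ g) (hS : T.slpOK = true) (hφ : Function.Injective φ)
    {L : List (ℕ × List ℕ × List (ℕ × ℕ × ℕ))} (hL : T.chainOK L [] = true) (hcard : chainProd L = Nat.card G)
    {x : G} (hx : ∀ e ∈ L, ∀ hb : e.1 < T.N, φ x ⟨e.1, hb⟩ = ⟨e.1, hb⟩) : x = 1 := by
  have hP : Nat.card φ.range = Nat.card G := (Nat.card_congr (MonoidHom.ofInjective hφ).toEquiv).symm
  have h := chainProd_mul_fix_le hA hS L [] φ.range hL fun e _ r _ _ => ⟨_, rfl⟩
  rw [hP, hcard] at h
  have h1 : Nat.card (φ.range ⊓ fixBase T L : Subgroup _) ≤ 1 :=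
    Nat.le_of_mul_le_mul_left (h.trans (mul_one _).ge) Nat.card_pos
  have h2 := (Subgroup.card_le_one_iff_eq_bot _).1 h1
  have : φ x ∈ (φ.range ⊓ fixBase T L : Subgroup _) := ⟨⟨x, rfl⟩, mem_fixBase hx⟩
  rw [h2, Subgroup.mem_bot] at this
  exact hφ (this.trans (map_one φ).symm)

end CfsgLib.Schur.Sporadic.He
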