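import Cfsg.Agent.Lib.Schur.He.Defs
import Cfsg.Agent.Lib.Schur.He.Data17

/-!
Kernel checks of the element of order seventeen of the Held group.
-/

set_option autoImplicit false
set_option maxRecDepth 100000
set_option maxHeartbeats 0

namespace CfsgLib.Schur.Sporadic.He

open CfsgLib.Sporadic.OutCert

theorem rows17_ok : rowsK w17 k17 = true := by decide +kernel

theorem order17_ok : testK 12 2058 [k17] 17 = true ∧ lk 12 k17 0 ≠ 0 := by decide +kernel

end CfsgLib.Schur.Sporadic.He
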