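import Cfsg.Agent.Lib.Schur.He.Defs
import Cfsg.Agent.Lib.Schur.He.Data2

/-!
Kernel checks of the data for the 2-part of the multiplier of the Held group.
-/

set_option autoImplicit false
set_option maxRecDepth 100000
set_option maxHeartbeats 0
set_option Elab.async false

namespace CfsgLib.Schur.Sporadic.He

theorem kw2_ok0 : rowsK (kw2.getD 0 []) (kk2.getD 0 0) = true := by decide +kernel

theorem kw2_ok1 : rowsK (kw2.getD 1 []) (kk2.getD 1 0) = true := by decide +kernel

theorem kw2_ok2 : rowsK (kw2.getD 2 []) (kk2.getD 2 0) = true := by decide +kernel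

theorem kw2_ok3 : rowsK (kw2.getD 3 []) (kk2.getD 3 0) = true := by decide +kernel

theorem kw2_ok4 : rowsK (kw2.getD 4 []) (kk2.getD 4 0) = true := by decide +kernel

theorem kw2_ok5 : rowsK (kw2.getD 5 []) (kk2.getD 5 0) = true := by decide +kernel

theorem kw2_ok6 : rowsK (kw2.getD 6 []) (kk2.getD 6 0) = true := by decide +kernel

theorem kw2_ok7 : rowsK (kw2.getD 7 []) (kk2.getD 7 0) = true := by decide +kernel

theorem kw2_ok8 : rowsK (kw2.getD 8 []) (kk2.getD 8 0) = true := by decide +kernel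

theorem kw2_ok9 : rowsK (kw2.getD 9 []) (kk2.getD 9 0) = true := by decide +kernel

theorem kw2_list : ListP kw2 kk2 := by
  refine ⟨by decide +kernel, fun i hi => ?_⟩
  have hn : kk2.length = 10 := by decide +kernel
  rw [hn] at hi
  match i, hi with
  | 0, _ => exact kw2_ok0
  | 1, _ => exact kw2_ok1
  | 2, _ => exact kw2_ok2
  | 3, _ => exact kw2_ok3
  | 4, _ => exact kw2_ok4
  | 5, _ => exact kw2_ok5
  | 6, _ => exact kw2_ok6
  | 7, _ => exact kw2_ok7
  | 8, _ => exact kw2_ok8
  | 9, _ => exact kw2_ok9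
  | n + 10, h => omega

theorem gw2_ok0 : rowsK (gw2.getD 0 []) (gk2.getD 0 0) = true := by decide +kernel

theorem gw2_ok1 : rowsK (gw2.getD 1 []) (gk2.getD 1 0) = true := by decide +kernel

theorem gw2_ok2 : rowsK (gw2.getD 2 []) (gk2.getD 2 0) = true := by decide +kernel

theorem gw2_ok3 : rowsK (gw2.getD 3 []) (gk2.getD 3 0) = true := by decide +kernel

theorem gw2_list : ListP gw2 gk2 := by
  refine ⟨by decide +kernel, fun i hi => ?_⟩
  have hn : gk2.length = 4 := by decide +kernel
  rw [hn] at hi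
  match i, hi with
  | 0, _ => exact gw2_ok0
  | 1, _ => exact gw2_ok1
  | 2, _ => exact gw2_ok2
  | 3, _ => exact gw2_ok3
  | n + 4, h => omega

theorem cert2_ok : certK cert2 = true ∧ cert2.p = 2 ∧ ¬ 2 ∣ cert2.m ∧ cert2.b = 1 := by decide +kernel

theorem rel2_ok : relP kk2 cert2 = true := by decide +kernel

theorem fus2_ok : fusP kk2 gk2 cert2 = true := by decide +kernel

theorem all2_ok : Tails.wordsOK 12 2058 kk2 pts2 words2 0 cert2.r = true ∧
    words2.length = 2 ^ cert2.r := by decide +kernel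

theorem inner2_ok : Tails.wordsOK 12 2058 kk2 pts2 inner2 cert2.a cert2.r = true ∧
    inner2.length = 2 ^ (cert2.r - cert2.a) := by decide +kernel

end CfsgLib.Schur.Sporadic.He
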