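import Cfsg.Agent.Lib.Schur.He.Defs
import Cfsg.Agent.Lib.Schur.He.Data3

/-!
Kernel checks of the data for the 3-part of the multiplier of the Held group.
-/

set_option autoImplicit false
set_option maxRecDepth 100000
set_option maxHeartbeats 0
set_option Elab.async false

namespace CfsgLib.Schur.Sporadic.He

theorem kw3_ok0 : rowsK (kw3.getD 0 []) (kk3.getD 0 0) = true := by decide +kernel

theorem kw3_ok1 : rowsK (kw3.getD 1 []) (kk3.getD 1 0) = true := by decide +kernel

theorem kw3_ok2 : rowsK (kw3.getD 2 []) (kk3.getD 2 0) = true := by decide +kernel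

theorem kw3_list : ListP kw3 kk3 := by
  refine ⟨by decide +kernel, fun i hi => ?_⟩
  have hn : kk3.length = 3 := by decide +kernel
  rw [hn] at hi
  match i, hi with
  | 0, _ => exact kw3_ok0
  | 1, _ => exact kw3_ok1
  | 2, _ => exact kw3_ok2
  | n + 3, h => omega

theorem gw3_ok0 : rowsK (gw3.getD 0 []) (gk3.getD 0 0) = true := by decide +kernel

theorem gw3_ok1 : rowsK (gw3.getD 1 []) (gk3.getD 1 0) = true := by decide +kernel

theorem gw3_list : ListP gw3 gk3 := by
  refine ⟨by decide +kernel, fun i hi => ?_⟩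
  have hn : gk3.length = 2 := by decide +kernel
  rw [hn] at hi
  match i, hi with
  | 0, _ => exact gw3_ok0
  | 1, _ => exact gw3_ok1
  | n + 2, h => omega

theorem cert3_ok : certK cert3 = true ∧ cert3.p = 3 ∧ ¬ 3 ∣ cert3.m ∧ cert3.b = 1 := by decide +kernel

theorem rel3_ok : relP kk3 cert3 = true := by decide +kernel

theorem fus3_ok : fusP kk3 gk3 cert3 = true := by decide +kernel

theorem all3_ok : Tails.wordsOK 12 2058 kk3 pts3 words3 0 cert3.r = true ∧
    words3.length = 3 ^ cert3.r := by decide +kernel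

theorem inner3_ok : Tails.wordsOK 12 2058 kk3 pts3 inner3 cert3.a cert3.r = true ∧
    inner3.length = 3 ^ (cert3.r - cert3.a) := by decide +kernel

end CfsgLib.Schur.Sporadic.He
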