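import Cfsg.Agent.Lib.Schur.He.Defs
import Cfsg.Agent.Lib.Schur.He.Data5

/-!
Kernel checks of the data for the 5-part of the multiplier of the Held group.
-/

set_option autoImplicit false
set_option maxRecDepth 100000
set_option maxHeartbeats 0
set_option Elab.async false

namespace CfsgLib.Schur.Sporadic.He

theorem kw5_ok0 : rowsK (kw5.getD 0 []) (kk5.getD 0 0) = true := by decide +kernel

theorem kw5_ok1 : rowsK (kw5.getD 1 []) (kk5.getD 1 0) = true := by decide +kernel

theorem kw5_list : ListP kw5 kk5 := by
  refine ⟨by decide +kernel, fun i hi => ?_⟩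
  have hn : kk5.length = 2 := by decide +kernel
  rw [hn] at hi
  match i, hi with
  | 0, _ => exact kw5_ok0
  | 1, _ => exact kw5_ok1
  | n + 2, h => omega

theorem gw5_ok0 : rowsK (gw5.getD 0 []) (gk5.getD 0 0) = true := by decide +kernel

theorem gw5_list : ListP gw5 gk5 := by
  refine ⟨by decide +kernel, fun i hi => ?_⟩
  have hn : gk5.length = 1 := by decide +kernel
  rw [hn] at hi
  match i, hi with
  | 0, _ => exact gw5_ok0
  | n + 1, h => omega

theorem cert5_ok : certK cert5 = true ∧ cert5.p = 5 ∧ ¬ 5 ∣ cert5.m ∧ cert5.b = 1 := by decide +kernel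

theorem rel5_ok : relP kk5 cert5 = true := by decide +kernel

theorem fus5_ok : fusP kk5 gk5 cert5 = true := by decide +kernel

theorem all5_ok : Tails.wordsOK 12 2058 kk5 pts5 words5 0 cert5.r = true ∧
    words5.length = 5 ^ cert5.r := by decide +kernel

theorem inner5_ok : Tails.wordsOK 12 2058 kk5 pts5 inner5 cert5.a cert5.r = true ∧
    inner5.length = 5 ^ (cert5.r - cert5.a) := by decide +kernel

end CfsgLib.Schur.Sporadic.He
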