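import Cfsg.Agent.Lib.Schur.He.Defs
import Cfsg.Agent.Lib.Schur.He.Data7

/-!
Kernel checks of the data for the 7-part of the multiplier of the Held group.
-/

set_option autoImplicit false
set_option maxRecDepth 100000
set_option maxHeartbeats 0
set_option Elab.async false

namespace CfsgLib.Schur.Sporadic.He

theorem kw7_ok0 : rowsK (kw7.getD 0 []) (kk7.getD 0 0) = true := by decide +kernel

theorem kw7_ok1 : rowsK (kw7.getD 1 []) (kk7.getD 1 0) = true := by decide +kernel

theorem kw7_ok2 : rowsK (kw7.getD 2 []) (kk7.getD 2 0) = true := by decide +kernel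

theorem kw7_list : ListP kw7 kk7 := by
  refine ⟨by decide +kernel, fun i hi => ?_⟩
  have hn : kk7.length = 3 := by decide +kernel
  rw [hn] at hi
  match i, hi with
  | 0, _ => exact kw7_ok0
  | 1, _ => exact kw7_ok1
  | 2, _ => exact kw7_ok2
  | n + 3, h => omega

theorem gw7_ok0 : rowsK (gw7.getD 0 []) (gk7.getD 0 0) = true := by decide +kernel

theorem gw7_list : ListP gw7 gk7 := by
  refine ⟨by decide +kernel, fun i hi => ?_⟩
  have hn : gk7.length = 1 := by decide +kernel
  rw [hn] at hi
  match i, hi with
  | 0, _ => exact gw7_ok0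
  | n + 1, h => omega

theorem cert7_ok : certK cert7 = true ∧ cert7.p = 7 ∧ ¬ 7 ∣ cert7.m ∧ cert7.b = 1 := by decide +kernel

theorem rel7_ok : relP kk7 cert7 = true := by decide +kernel

theorem fus7_ok : fusP kk7 gk7 cert7 = true := by decide +kernel

theorem all7_ok : Tails.wordsOK 12 2058 kk7 pts7 words7 0 cert7.r = true ∧
    words7.length = 7 ^ cert7.r := by decide +kernel

theorem inner7_ok : Tails.wordsOK 12 2058 kk7 pts7 inner7 cert7.a cert7.r = true ∧
    inner7.length = 7 ^ (cert7.r - cert7.a) := by decide +kernel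

end CfsgLib.Schur.Sporadic.He
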