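import Cfsg.Agent.Lib.Schur.TailsPerm
import Cfsg.Agent.Lib.Sporadic.HeData.HeTable

/-!
Packed permutations from rows of the table of the Held group on 2058 points.
-/

set_option autoImplicit false

namespace CfsgLib.Schur.Sporadic.He

open CfsgLib.Sporadic.OutCert CfsgLib.Sporadic.CosetCert

/-- A number is the packed product of some rows. -/
noncomputable def rowsK (w : List ℕ) (k : ℕ) : Bool :=
  (w.all fun r => Nat.blt r (HeData.table.nl + HeData.table.slp.length)) &&
    allF (fun u => Nat.beq (lk 12 k u) (List.rec (motive := fun _ => ℕ) u (fun r _ ih => HeData.table.img r ih) w))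
      2058

/-- All listed numbers are products of their rows. -/
def ListP (ws : List (List ℕ)) (ks : List ℕ) : Prop :=
  ws.length = ks.length ∧ ∀ i, i < ks.length → rowsK (ws.getD i []) (ks.getD i 0) = true

/-- The base points of the chain. -/
def basePts : List ℕ := HeData.chainG.map Prod.fst

/-- The image of a point under a word in listed permutations. -/
noncomputable def imgW (kk : List ℕ) (l : List ℕ) (x : ℕ) : ℕ :=
  appK 12 (l.map fun i => kk.getD i (oneK 12 2058)) x

/-- The rules hold at the base points. -/
noncomputable def relP (kk : List ℕ) (D : Tails.Cert) : Bool :=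
  D.rules.all fun R => basePts.all fun x => Nat.beq (imgW kk R.1 x) (imgW kk R.2 x)

/-- The fusions hold at the base points. -/
noncomputable def fusP (kk gk : List ℕ) (D : Tails.Cert) : Bool :=
  (List.range D.fus.length).all fun j =>
    let F := D.fus.getD j ⟨[], [], []⟩
    (List.range F.us.length).all fun s => basePts.all fun x =>
      Nat.beq (lk 12 (gk.getD j (oneK 12 2058)) (imgW kk (F.us.getD s []) x))
        (imgW kk (F.vs.getD s []) (lk 12 (gk.getD j (oneK 12 2058)) x))

/-- All checks at one prime. -/
noncomputable def certK (D : Tails.Cert) : Bool := D.eqsOK && (D.combOK && D.shapeOK)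

end CfsgLib.Schur.Sporadic.He
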