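import Cfsg.Agent.Lib.Schur.He.Check2
import Cfsg.Agent.Lib.Schur.He.Check3
import Cfsg.Agent.Lib.Schur.He.Check5
import Cfsg.Agent.Lib.Schur.He.Check7
import Cfsg.Agent.Lib.Schur.He.Check17
import Cfsg.Agent.Lib.Schur.He.BasePoints
import Cfsg.Agent.Lib.Schur.TailsCombine
import Cfsg.Agent.Lib.Schur.Basic
import Cfsg.Agent.Lib.Sporadic.HePresented

/-!
The multiplier of the Held group is trivial.
-/

set_option autoImplicit false
set_option maxRecDepth 100000

namespace CfsgLib.Schur.Sporadic.He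

open CfsgLib.Sporadic.OutCert CfsgLib.Sporadic.CosetCert

attribute [local irreducible] lk allF PTab.img

/-- The element of a list of rows. -/
noncomputable def rowsEl (w : List ℕ) : Cfsg.Spor.He := (w.map (HeData.table.el HeP.coding.gen)).prod

theorem hom_rows : ∀ (w : List ℕ), (∀ r ∈ w, r < HeData.table.nl + HeData.table.slp.length) →
    ∀ v : Fin HeData.table.N, ((HeP.hom (rowsEl w) v : Fin HeData.table.N) : ℕ) =
      List.rec (motive := fun _ => ℕ) (v : ℕ) (fun r _ ih => HeData.table.img r ih) w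
  | [], _, v => by simp [rowsEl]
  | r :: w, h, v => by
    have e : rowsEl (r :: w) = HeData.table.el HeP.coding.gen r * rowsEl w := rfl
    rw [e, map_mul, Equiv.Perm.mul_apply]
    refine (HeP.hom_acts.el_img HeData.table_slp r (h r List.mem_cons_self) _).trans ?_
    exact congrArg (HeData.table.img r) (hom_rows w (fun s hs => h s (List.mem_cons_of_mem _ hs)) v)

/-- The homomorphism to permutations of 2058 points. -/
noncomputable def ψ : Cfsg.Spor.He →* Equiv.Perm (Fin 2058) := HeP.hom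

theorem ψ_injective : Function.Injective ψ := HeP.card_eq.2

theorem rep_rows {w : List ℕ} {k : ℕ} (h : rowsK w k = true) : Rep 12 2058 k (ψ (rowsEl w)) := by
  intro i
  simp only [rowsK, Bool.and_eq_true, List.all_eq_true, Nat.blt_eq, allF_iff, Nat.beq_eq] at h
  exact (h.2 i i.isLt).trans (hom_rows w h.1 i).symm

theorem rep_list {ws : List (List ℕ)} {ks : List ℕ} (h : ListP ws ks) (i : ℕ) :
    Rep 12 2058 (ks.getD i (oneK 12 2058)) (ψ (rowsEl (ws.getD i []))) := by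
  by_cases hi : i < ks.length
  · have h2 := h.2 i hi
    rw [List.getD_eq_getElem _ _ hi] at h2 ⊢
    exact rep_rows h2
  · rw [List.getD_eq_default _ _ (not_lt.1 hi), List.getD_eq_default _ _ (h.1.le.trans (not_lt.1 hi))]
    simpa [rowsEl] using rep_one (w := 12) (N := 2058) (by norm_num)

theorem eq_of_base {a b : Cfsg.Spor.He}
    (h : ∀ x ∈ basePts, ∀ hx : x < 2058, ψ a ⟨x, hx⟩ = ψ b ⟨x, hx⟩) : a = b := by
  haveI := HeP.finite
  have : b⁻¹ * a = 1 := eq_one_of_fix HeP.hom_acts HeData.table_slp HeP.card_eq.2 HeData.chainG_ok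
    (HeData.chainG_prod.trans HeP.card_eq.1.symm) fun e he hb => by
      show ψ (b⁻¹ * a) ⟨e.1, hb⟩ = ⟨e.1, hb⟩
      rw [map_mul, map_inv, Equiv.Perm.mul_apply, h e.1 (List.mem_map.2 ⟨e, he, rfl⟩) hb]
      simp
  exact (inv_mul_eq_one.1 this).symm

theorem img_spec {kk : List ℕ} {y : ℕ → Cfsg.Spor.He}
    (hy : ∀ i, Rep 12 2058 (kk.getD i (oneK 12 2058)) (ψ (y i))) (l : List ℕ) (x : Fin 2058) :
    imgW kk l x = (ψ (Tails.valW y l) x : ℕ) := by
  induction l with
  | nil => simp [imgW, appK]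
  | cons i l ih =>
    rw [Tails.valW_cons, map_mul, Equiv.Perm.mul_apply, ← hy i]
    show lk 12 _ (imgW kk l x) = _
    rw [ih]

theorem rel_of_points {kk : List ℕ} {y : ℕ → Cfsg.Spor.He}
    (hy : ∀ i, Rep 12 2058 (kk.getD i (oneK 12 2058)) (ψ (y i))) {D : Tails.Cert} (h : relP kk D = true) :
    ∀ R ∈ D.rules, Tails.valW y R.1 = Tails.valW y R.2 := by
  intro R hR
  refine eq_of_base fun x hx hlt => Fin.ext ?_
  simp only [relP, List.all_eq_true, Nat.beq_eq] at h
  rw [← img_spec hy R.1 ⟨x, hlt⟩, ← img_spec hy R.2 ⟨x, hlt⟩]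
  exact h R hR x hx

theorem fus_of_points {kk gk : List ℕ} {y g : ℕ → Cfsg.Spor.He}
    (hy : ∀ i, Rep 12 2058 (kk.getD i (oneK 12 2058)) (ψ (y i)))
    (hg : ∀ j, Rep 12 2058 (gk.getD j (oneK 12 2058)) (ψ (g j))) {D : Tails.Cert} (h : fusP kk gk D = true) :
    ∀ j < D.fus.length, ∀ s < (D.fus.getD j ⟨[], [], []⟩).us.length,
      g j * Tails.valW y ((D.fus.getD j ⟨[], [], []⟩).us.getD s []) =
        Tails.valW y ((D.fus.getD j ⟨[], [], []⟩).vs.getD s []) * g j := by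
  intro j hj s hs
  refine eq_of_base fun x hx hlt => Fin.ext ?_
  simp only [fusP, List.all_eq_true, List.mem_range, Nat.beq_eq] at h
  have e := h j hj s hs x hx
  rw [map_mul, map_mul, Equiv.Perm.mul_apply, Equiv.Perm.mul_apply, ← hg j, ← img_spec hy _ ⟨x, hlt⟩,
    ← img_spec hy _ (ψ (g j) ⟨x, hlt⟩), ← hg j ⟨x, hlt⟩]
  exact e

theorem bound_at {D : Tails.Cert} {kk gk pts : List ℕ} {kw gw ws wi : List (List ℕ)}
    {p : ℕ} [Fact p.Prime] (hc : certK D = true ∧ D.p = p ∧ ¬ p ∣ D.m ∧ D.b = 1)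
    (hl : ListP kw kk ∧ ListP gw gk)
    (hr : relP kk D = true) (hf : fusP kk gk D = true)
    (ha : Tails.wordsOK 12 2058 kk pts ws 0 D.r = true ∧ ws.length = p ^ D.r)
    (hi : Tails.wordsOK 12 2058 kk pts wi D.a D.r = true ∧ wi.length = p ^ (D.r - D.a))
    (hQ : ¬ p ^ (D.r + 1) ∣ 4030387200) (Γ : Type) [Group Γ] [Finite Γ] (σ : Γ →* Cfsg.Spor.He)
    (hσ : Cfsg.IsStemExtension σ) : (Nat.card σ.ker).factorization p = 0 := by
  haveI := HeP.finite
  obtain ⟨hD, hDp, hm, hb⟩ := hc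
  simp only [certK, Bool.and_eq_true] at hD
  obtain ⟨he, hco, hs⟩ := hD
  have hy := rep_list hl.1
  have := Tails.factorization_card_ker_le D he hco hs hDp hm (fun i => rowsEl (kw.getD i []))
    (rel_of_points hy hr) (fun j => rowsEl (gw.getD j []))
    (fus_of_points hy (rep_list hl.2) hf)
    (by rw [← ha.2]; exact Tails.card_tailGen_ge ψ hy ha.1)
    (by rw [← hi.2]; exact Tails.card_tailGen_ge ψ hy hi.1)
    (by rwa [HeP.card_eq.1]) Γ σ hσ
  rwa [hb, Nat.factorization_one, Finsupp.coe_zero, Pi.zero_apply, Nat.le_zero] at this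

theorem order17 : orderOf (rowsEl w17) = 17 := by
  haveI : Fact (Nat.Prime 17) := ⟨by norm_num⟩
  rw [← orderOf_injective ψ ψ_injective]
  have hrep := rep_rows rows17_ok
  refine orderOf_eq_prime ?_ fun e => order17_ok.2 ?_
  · simpa using (test_iff (List.Forall₂.cons hrep List.Forall₂.nil) 17).1 order17_ok.1
  · have h := hrep ⟨0, by norm_num⟩
    rw [e] at h
    simpa using h

theorem hasMultiplier : Cfsg.HasCyclicSchurMultiplier Cfsg.Spor.He 1 := by
  haveI := HeP.finite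
  refine Basic.hasCyclicSchurMultiplier_one_of fun Γ _ _ σ hσ => (Subgroup.card_le_one_iff_eq_bot _).1 ?_
  refine Tails.card_ker_le σ hσ one_ne_zero fun p hp hd => ?_
  rw [HeP.card_eq.1] at hd
  have hp' : p = 2 ∨ p = 3 ∨ p = 5 ∨ p = 7 ∨ p = 17 := by
    have h1 : p ∣ 2 ^ 10 * 3 ^ 3 * 5 ^ 2 * 7 ^ 3 * 17 := hd
    have q : ∀ r : ℕ, r.Prime → p ∣ r → p = r := fun r hr h => (Nat.prime_dvd_prime_iff_eq hp hr).1 h
    simp only [Nat.Prime.dvd_mul hp] at h1
    rcases h1 with (((h1 | h1) | h1) | h1) | h1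
    · exact Or.inl (q 2 Nat.prime_two (hp.dvd_of_dvd_pow h1))
    · exact Or.inr (Or.inl (q 3 Nat.prime_three (hp.dvd_of_dvd_pow h1)))
    · exact Or.inr (Or.inr (Or.inl (q 5 Nat.prime_five (hp.dvd_of_dvd_pow h1))))
    · exact Or.inr (Or.inr (Or.inr (Or.inl (q 7 (by norm_num) (hp.dvd_of_dvd_pow h1)))))
    · exact Or.inr (Or.inr (Or.inr (Or.inr (q 17 (by norm_num) h1))))
  haveI := Fact.mk hp
  refine le_trans (le_of_eq ?_) (Nat.zero_le _)
  rcases hp' with rfl | rfl | rfl | rfl | rfl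
  · exact bound_at cert2_ok ⟨kw2_list, gw2_list⟩ rel2_ok fus2_ok all2_ok inner2_ok (by decide +kernel) Γ σ hσ
  · exact bound_at cert3_ok ⟨kw3_list, gw3_list⟩ rel3_ok fus3_ok all3_ok inner3_ok (by decide +kernel) Γ σ hσ
  · exact bound_at cert5_ok ⟨kw5_list, gw5_list⟩ rel5_ok fus5_ok all5_ok inner5_ok (by decide +kernel) Γ σ hσ
  · exact bound_at cert7_ok ⟨kw7_list, gw7_list⟩ rel7_ok fus7_ok all7_ok inner7_ok (by decide +kernel) Γ σ hσ
  · exact Tails.factorization_card_ker_of_orderOf σ hσ (rowsEl w17) (k := 1) (by rw [order17, pow_one])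
      (by rw [HeP.card_eq.1]; norm_num)

end CfsgLib.Schur.Sporadic.He
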